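import Groth.Agent.S9762
import Groth.Agent.GrpdLib.Basic

/-!
# Finite parts with prescribed fibre after an elementary étale localisation
-/

set_option autoImplicit false
set_option backward.isDefEq.respectTransparency.types false
universe u

open CategoryTheory CategoryTheory.Limits AlgebraicGeometry Topology

namespace Groth.Agent.GrpdLib.EtPart

open Wt.EtNbhd Wt.Parts

variable {X S S' : Scheme.{u}}

/-- A closed and open part, finite over the base, with prescribed points over `p'`. -/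
structure IsPart (f : X ⟶ S) (g : S' ⟶ S) (p' : S') (T : Set X) (V : (pullback f g).Opens) : Prop where
  closed : IsClosed (V : Set ↥(pullback f g))
  finite : IsFinite (V.ι ≫ pullback.snd f g)
  mem : ∀ x : ↥(pullback f g), pullback.snd f g x = p' → (x ∈ V ↔ pullback.fst f g x ∈ T)

/-- Isolated points of the fibres are the quasi-finite points. -/
theorem quasiFiniteAt_iff (f : X ⟶ S) [LocallyOfFiniteType f] (x : X) :
    f.QuasiFiniteAt x ↔ ∃ O : X.Opens, x ∈ O ∧ ∀ y ∈ O, f y = f x → y = x := by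
  rw [Scheme.Hom.quasiFiniteAt_iff_isOpen_singleton_asFiber]
  rw [← (f.fiberHomeo (f x)).isOpen_image, Set.image_singleton, Scheme.Hom.asFiber, Homeomorph.apply_symm_apply,
    isOpen_induced_iff]
  constructor
  · rintro ⟨O, hO, he⟩
    refine ⟨⟨O, hO⟩, ?_, fun y hy hxy => ?_⟩
    · have : (⟨x, rfl⟩ : f ⁻¹' {f x}) ∈ Subtype.val ⁻¹' O := by rw [he]; rfl
      exact this
    · have : (⟨y, hxy⟩ : f ⁻¹' {f x}) ∈ Subtype.val ⁻¹' O := hy
      rw [he] at this
      exact congrArg Subtype.val this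
  · rintro ⟨O, hx, h⟩
    refine ⟨O, O.isOpen, ?_⟩
    ext ⟨y, hy⟩
    exact ⟨fun hy' => Subtype.ext (h y hy' hy), fun e => by
      have := congrArg Subtype.val e
      exact (show y = x from this) ▸ hx⟩

/-- A finite fibre stays finite after base change. -/
theorem finite_fibre_snd {Y : Scheme.{u}} (f : X ⟶ S) [LocallyOfFiniteType f] (g : Y ⟶ S) (y : Y)
    (hfin : (f ⁻¹' {g y}).Finite) : (pullback.snd f g ⁻¹' {y}).Finite := by
  haveI : LocallyOfFiniteType (f.fiberToSpecResidueField (g y)) :=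
    MorphismProperty.pullback_snd _ _ inferInstance
  haveI : Finite ↥(f ⁻¹' {g y}) := hfin.to_subtype
  haveI : Finite ↥(f.fiber (g y)) := Finite.of_equiv _ (f.fiberHomeo (g y)).toEquiv.symm
  haveI : LocallyQuasiFinite (f.fiberToSpecResidueField (g y)) :=
    LocallyQuasiFinite.of_finite_preimage_singleton _ fun _ => Set.toFinite _
  haveI : QuasiCompact (f.fiberToSpecResidueField (g y)) :=
    (quasiCompact_iff_compactSpace _).2 inferInstance
  let r := Spec.map (g.residueFieldMap y)
  haveI : LocallyQuasiFinite (pullback.snd (f.fiberToSpecResidueField (g y)) r) :=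
    MorphismProperty.pullback_snd _ _ inferInstance
  haveI : QuasiCompact (pullback.snd (f.fiberToSpecResidueField (g y)) r) :=
    MorphismProperty.pullback_snd _ _ inferInstance
  have hF : (Set.univ : Set ↥(pullback (f.fiberToSpecResidueField (g y)) r)).Finite := by
    have := (pullback.snd (f.fiberToSpecResidueField (g y)) r).finite_preimage_singleton
      (IsLocalRing.closedPoint (Y.residueField y))
    refine this.subset fun z _ => ?_
    exact Subsingleton.elim (α := PrimeSpectrum (Y.residueField y)) _ _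
  let π : pullback (f.fiberToSpecResidueField (g y)) r ⟶ pullback f g :=
    pullback.map _ _ _ _ (f.fiberι (g y)) (Y.fromSpecResidueField y) (S.fromSpecResidueField (g y))
      pullback.condition.symm (by simp [r])
  refine (hF.image π).subset fun w hw => ?_
  rw [Set.image_univ, Scheme.Pullback.range_map]
  refine ⟨?_, ?_⟩
  · show pullback.fst f g w ∈ Set.range (f.fiberι (g y))
    rw [f.range_fiberι]
    show f (pullback.fst f g w) = g y
    rw [← Scheme.Hom.comp_apply, pullback.condition, Scheme.Hom.comp_apply]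
    exact congrArg g hw
  · show pullback.snd f g w ∈ Set.range (Y.fromSpecResidueField y)
    rw [Scheme.range_fromSpecResidueField]
    exact hw

/-- Finite parts with prescribed fibre. -/
theorem exists_isPart (f : X ⟶ S) [LocallyOfFiniteType f] [IsSeparated f] (s : S) (T : Set X) (hT : T.Finite)
    (hs : ∀ x ∈ T, f x = s) (hq : ∀ x ∈ T, f.QuasiFiniteAt x) :
    ∃ (S' : Scheme.{u}) (g : S' ⟶ S) (p' : S'), Hens2.IsEtaleNbhd g p' s ∧
      ∃ V : (pullback f g).Opens, IsPart f g p' T V := by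
  haveI : Finite T := hT.to_subtype
  obtain ⟨n, ⟨e⟩⟩ := Finite.exists_equiv_fin T
  obtain ⟨U, g, u, hn, W, z, hWz⟩ := exists_finParts f s (Fin n) (fun i => (e.symm i).1)
    (fun i => hs _ (e.symm i).2) (fun i => hq _ (e.symm i).2)
  let q := pullback.snd f g
  have hclosed : ∀ i, IsClosed (W i : Set ↑(pullback f g)) := fun i => by
    have := (hWz i).1.finite
    have : IsFinite (W i).ι := IsFinite.of_comp (W i).ι q
    rw [← Scheme.Opens.range_ι]
    exact (W i).ι.isClosedMap.isClosed_range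
  refine ⟨U, g, u, hn, ⨆ i, W i, ⟨?_, S9762.isFinite_iSup q W fun i => (hWz i).1.finite, fun x hx => ?_⟩⟩
  · rw [TopologicalSpace.Opens.coe_iSup]
    exact isClosed_iUnion_of_finite hclosed
  rw [TopologicalSpace.Opens.mem_iSup]
  constructor
  · rintro ⟨i, hi⟩
    rw [(hWz i).1.unique x hi hx, (hWz i).2]
    exact (e.symm i).2
  · intro hT'
    refine ⟨e ⟨_, hT'⟩, ?_⟩
    have hfx : f (pullback.fst f g x) = g u := by
      rw [← Scheme.Hom.comp_apply, pullback.condition, Scheme.Hom.comp_apply, hx]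
    obtain ⟨z₀, -, huniq⟩ := existsUnique_lift f g _ u hfx hn.residue_bijective
    have hz : x = z (e ⟨_, hT'⟩) := (huniq x rfl hx).trans
      (huniq (z (e ⟨_, hT'⟩)) ((hWz _).2.trans (by simp)) (hWz _).1.map_eq).symm
    exact Set.mem_of_eq_of_mem hz (hWz (e ⟨_, hT'⟩)).1.mem

variable {S'' : Scheme.{u}}

/-- Parts pull back along refinements. -/
theorem IsPart.comap {f : X ⟶ S} {g : S' ⟶ S} {p' : S'} {T : Set X} {V : (pullback f g).Opens}
    (hV : IsPart f g p' T V) {g'' : S'' ⟶ S} (h : S'' ⟶ S') (hg : h ≫ g = g'') (p'' : S'') (hp : h p'' = p') :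
    IsPart f g'' p'' T (bcMap f h hg ⁻¹ᵁ V) := by
  refine ⟨hV.closed.preimage (bcMap f h hg).continuous, isFinite_preimage h (isPullback_bcMap f h hg) V hV.finite,
    fun x hx => ?_⟩
  rw [← fst_bcMap f h hg x]
  exact hV.mem _ (by rw [snd_bcMap, hx, hp])

/-- Common refinement of two elementary étale neighbourhoods. -/
theorem exists_common {S₁ S₂ : Scheme.{u}} {g₁ : S₁ ⟶ S} {g₂ : S₂ ⟶ S} {p₁ : S₁} {p₂ : S₂} {s : S}
    (h₁ : Hens2.IsEtaleNbhd g₁ p₁ s) (h₂ : Hens2.IsEtaleNbhd g₂ p₂ s) :
    ∃ p : ↥(pullback g₁ g₂), Hens2.IsEtaleNbhd (pullback.fst g₁ g₂ ≫ g₁) p s ∧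
      pullback.fst g₁ g₂ p = p₁ ∧ pullback.snd g₁ g₂ p = p₂ := by
  obtain ⟨p, ⟨hp₁, hp₂, hb⟩, -⟩ := existsUnique_lift g₁ g₂ p₁ p₂ (h₁.base_eq.trans h₂.base_eq.symm)
    h₂.residue_bijective
  have := h₁.etale
  have := h₂.etale
  refine ⟨p, ⟨inferInstance, ?_, residueFieldMap_bijective_comp _ _ _ hb (hp₁.symm ▸ h₁.residue_bijective)⟩, hp₁, hp₂⟩
  rw [Scheme.Hom.comp_apply, hp₁, h₁.base_eq]

/-- Restricting an elementary étale neighbourhood to an open. -/
theorem nbhd_restrict {g : S' ⟶ S} {p' : S'} {s : S} (h : Hens2.IsEtaleNbhd g p' s) (W : S'.Opens) (hp : p' ∈ W) :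
    Hens2.IsEtaleNbhd (W.ι ≫ g) (⟨p', hp⟩ : (W : Scheme.{u})) s := by
  have := h.etale
  exact ⟨inferInstance, h.base_eq, residueFieldMap_bijective_comp _ _ _
    (ConcreteCategory.bijective_of_isIso _) h.residue_bijective⟩

end Groth.Agent.GrpdLib.EtPart
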