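import Groth.Agent.GrpdLib.EtPart.Basic

/-!
# The finite part of a groupoid at a quasi-finite point
-/

set_option autoImplicit false
set_option backward.isDefEq.respectTransparency false
set_option backward.isDefEq.respectTransparency.types false
universe u

open CategoryTheory CategoryTheory.Limits AlgebraicGeometry Topology

namespace Groth.Agent.GrpdLib.EtPart

open Wt.EtNbhd Wt.Parts

variable {S : Scheme.{u}} (G : Grpd.GroupoidScheme S)

/-- The orbit of a point. -/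
def orbit (u : G.U) : Set G.U := G.t '' (G.s ⁻¹' {u})

variable [LocallyOfFiniteType G.pU] [Flat G.s] [LocallyOfFinitePresentation G.s] [Flat G.t]
  [LocallyOfFinitePresentation G.t]

theorem pR_apply_s (r : G.R) : G.pU (G.s r) = G.pR r := by rw [← Scheme.Hom.comp_apply, G.s_over]

theorem pR_apply_t (r : G.R) : G.pU (G.t r) = G.pR r := by rw [← Scheme.Hom.comp_apply, G.t_over]

/-- Composition with a fixed arrow bounds fibres. -/
theorem finite_fibre_of_arrow {u : G.U} (hfin : (⇑G.s ⁻¹' {u}).Finite) (r : G.R) (hr : G.s r = u) :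
    (⇑G.s ⁻¹' {G.t r}).Finite := by
  let φ : pullback G.s G.t ⟶ pullback G.s G.s :=
    pullback.lift G.c (pullback.snd G.s G.t) (c_s G)
  let ψ : pullback G.s G.s ⟶ pullback G.s G.t :=
    pullback.lift (comp G (pullback.fst G.s G.s) (pullback.snd G.s G.s ≫ G.i) (by
      rw [pullback.condition]; simp)) (pullback.snd G.s G.s) (by rw [comp_s]; simp)
  have hid : φ ≫ ψ = 𝟙 _ := by
    apply pullback.hom_ext
    · rw [Category.assoc, pullback.lift_fst, Category.id_comp, naturality]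
      refine (comp_congr G _ (by rw [comp_s, Category.assoc, G.i_t]) ?_ ?_).trans
        (comp_cancel_right G (pullback.fst G.s G.t) (pullback.snd G.s G.t) pullback.condition)
      · rw [pullback.lift_fst, comp, show pullback.lift (pullback.fst G.s G.t) (pullback.snd G.s G.t) pullback.condition = 𝟙 _ by ext <;> simp, Category.id_comp]
      · rw [pullback.lift_snd_assoc]
    · rw [Category.assoc, pullback.lift_snd, pullback.lift_snd, Category.id_comp]
  have hinj : Function.Injective φ := fun a b hab => by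
    have := congrArg ψ hab
    rwa [← Scheme.Hom.comp_apply, ← Scheme.Hom.comp_apply, hid] at this
  have h₁ := finite_fibre_snd G.s G.s r (by rw [hr]; exact hfin)
  refine ((h₁.preimage hinj.injOn).image (pullback.fst G.s G.t)).subset fun z hz => ?_
  obtain ⟨w, hw₁, hw₂⟩ := Scheme.Pullback.exists_preimage_pullback (f := G.s) (g := G.t) z r hz
  refine ⟨w, ?_, hw₁⟩
  show pullback.snd G.s G.s (φ w) = r
  rw [← Scheme.Hom.comp_apply, pullback.lift_snd, hw₂]

/-- Translating an arrow out of the orbit into the fibre. -/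
theorem orbit_closed {u : G.U} {r' : G.R} (hr' : G.s r' ∈ orbit G u) : G.t r' ∈ orbit G u := by
  obtain ⟨r, hr, hrr'⟩ := hr'
  obtain ⟨w, hw₁, hw₂⟩ := Scheme.Pullback.exists_preimage_pullback (f := G.s) (g := G.t) r' r hrr'.symm
  refine ⟨G.c w, ?_, ?_⟩
  · show G.s (G.c w) = u
    rw [← Scheme.Hom.comp_apply, c_s, Scheme.Hom.comp_apply, hw₂]
    exact hr
  · rw [← Scheme.Hom.comp_apply, c_t, Scheme.Hom.comp_apply, hw₁]

theorem quasiFiniteAt_pR {x : G.U} (hx : G.pU.QuasiFiniteAt x) (hfin : (⇑G.s ⁻¹' {x}).Finite) (r : G.R)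
    (hr : G.s r = x) [LocallyOfFiniteType G.pR] : G.pR.QuasiFiniteAt r := by
  subst hr
  haveI : LocallyOfFiniteType (G.s.fiberToSpecResidueField (G.s r)) := MorphismProperty.pullback_snd _ _ inferInstance
  haveI : Finite ↥(⇑G.s ⁻¹' {G.s r}) := hfin.to_subtype
  haveI : Finite ↥(G.s.fiber (G.s r)) := Finite.of_equiv _ (G.s.fiberHomeo (G.s r)).toEquiv.symm
  haveI : LocallyQuasiFinite (G.s.fiberToSpecResidueField (G.s r)) :=
    LocallyQuasiFinite.of_finite_preimage_singleton _ fun _ => Set.toFinite _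
  have hsr : G.s.QuasiFiniteAt r := by
    rw [Scheme.Hom.quasiFiniteAt_iff_isOpen_singleton_asFiber]
    haveI : DiscreteTopology ↥(G.s.fiber (G.s r)) := by
      have h := (G.s.fiberToSpecResidueField (G.s r)).isDiscrete_preimage_singleton (IsLocalRing.closedPoint _)
      have e : G.s.fiberToSpecResidueField (G.s r) ⁻¹' {IsLocalRing.closedPoint _} = Set.univ :=
        Set.eq_univ_of_forall fun z => Subsingleton.elim (α := PrimeSpectrum (G.U.residueField (G.s r))) _ _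
      exact isDiscrete_univ_iff.1 (e ▸ h)
    exact isOpen_discrete _
  rw [quasiFiniteAt_iff] at hx hsr ⊢
  obtain ⟨V, hxV, hV⟩ := hx
  obtain ⟨O, hrO, hO⟩ := hsr
  refine ⟨O ⊓ G.s ⁻¹ᵁ V, ⟨hrO, hxV⟩, fun y hy e => hO y hy.1 (hV _ hy.2 ?_)⟩
  rw [pR_apply_s, pR_apply_s, e]

theorem quasiFiniteAt_orbit {u : G.U} (hu : G.pU.QuasiFiniteAt u) (hfin : (⇑G.s ⁻¹' {u}).Finite)
    {x : G.U} (hx : x ∈ orbit G u) [LocallyOfFiniteType G.pR] : G.pU.QuasiFiniteAt x := by
  obtain ⟨r, hr, rfl⟩ := hx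
  have h := quasiFiniteAt_pR G hu hfin r hr
  rw [quasiFiniteAt_iff] at h ⊢
  obtain ⟨O, hrO, hO⟩ := h
  refine ⟨⟨G.t '' O, G.t.isOpenMap _ O.isOpen⟩, ⟨r, hrO, rfl⟩, ?_⟩
  rintro _ ⟨y, hy, rfl⟩ e
  rw [hO y hy (by rwa [← pR_apply_t, ← pR_apply_t])]

variable [IsSeparated G.pU] [IsSeparated G.pR] {S' : Scheme.{u}} (g : S' ⟶ S)

/-- The base change of the source map. -/
noncomputable abbrev sBC : pullback G.pR g ⟶ pullback G.pU g :=
  pullback.map G.pR g G.pU g G.s (𝟙 S') (𝟙 S) ((Category.comp_id _).trans G.s_over.symm)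
    ((Category.comp_id _).trans (Category.id_comp _).symm)

/-- The base change of the target map. -/
noncomputable abbrev tBC : pullback G.pR g ⟶ pullback G.pU g :=
  pullback.map G.pR g G.pU g G.t (𝟙 S') (𝟙 S) ((Category.comp_id _).trans G.t_over.symm)
    ((Category.comp_id _).trans (Category.id_comp _).symm)

omit [LocallyOfFiniteType G.pU] [Flat G.s] [LocallyOfFinitePresentation G.s] [Flat G.t] [LocallyOfFinitePresentation G.t] [IsSeparated G.pU] [IsSeparated G.pR] in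
theorem sBC_fst (x : ↥(pullback G.pR g)) : pullback.fst G.pU g (sBC G g x) = G.s (pullback.fst G.pR g x) := by
  rw [← Scheme.Hom.comp_apply, ← Scheme.Hom.comp_apply]; simp [sBC, pullback.map]

omit [LocallyOfFiniteType G.pU] [Flat G.s] [LocallyOfFinitePresentation G.s] [Flat G.t] [LocallyOfFinitePresentation G.t] [IsSeparated G.pU] [IsSeparated G.pR] in
theorem tBC_fst (x : ↥(pullback G.pR g)) : pullback.fst G.pU g (tBC G g x) = G.t (pullback.fst G.pR g x) := by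
  rw [← Scheme.Hom.comp_apply, ← Scheme.Hom.comp_apply]; simp [tBC, pullback.map]

omit [LocallyOfFiniteType G.pU] [Flat G.s] [LocallyOfFinitePresentation G.s] [Flat G.t] [LocallyOfFinitePresentation G.t] [IsSeparated G.pU] [IsSeparated G.pR] in
theorem sBC_snd (x : ↥(pullback G.pR g)) : pullback.snd G.pU g (sBC G g x) = pullback.snd G.pR g x := by
  rw [← Scheme.Hom.comp_apply]; simp [sBC, pullback.map]

omit [LocallyOfFiniteType G.pU] [Flat G.s] [LocallyOfFinitePresentation G.s] [Flat G.t] [LocallyOfFinitePresentation G.t] [IsSeparated G.pU] [IsSeparated G.pR] in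
theorem tBC_snd (x : ↥(pullback G.pR g)) : pullback.snd G.pU g (tBC G g x) = pullback.snd G.pR g x := by
  rw [← Scheme.Hom.comp_apply]; simp [tBC, pullback.map]

omit [LocallyOfFiniteType G.pU] [Flat G.s] [LocallyOfFinitePresentation G.s] [Flat G.t] [LocallyOfFinitePresentation G.t] [IsSeparated G.pU] [IsSeparated G.pR] in
theorem bcMap_sBC {S'' : Scheme.{u}} {g'' : S'' ⟶ S} (h : S'' ⟶ S') (hg : h ≫ g = g'') :
    bcMap G.pR h hg ≫ sBC G g = sBC G g'' ≫ bcMap G.pU h hg := by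
  apply pullback.hom_ext <;> simp [sBC, bcMap, pullback.map]

omit [LocallyOfFiniteType G.pU] [Flat G.s] [LocallyOfFinitePresentation G.s] [Flat G.t] [LocallyOfFinitePresentation G.t] [IsSeparated G.pU] [IsSeparated G.pR] in
theorem bcMap_tBC {S'' : Scheme.{u}} {g'' : S'' ⟶ S} (h : S'' ⟶ S') (hg : h ≫ g = g'') :
    bcMap G.pR h hg ≫ tBC G g = tBC G g'' ≫ bcMap G.pU h hg := by
  apply pullback.hom_ext <;> simp [tBC, bcMap, pullback.map]

omit [Flat G.s] [LocallyOfFinitePresentation G.s] [Flat G.t] [LocallyOfFinitePresentation G.t] [IsSeparated G.pU] [IsSeparated G.pR] in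
/-- Arrows between two points of a finite part form a set with closed image in the base. -/
theorem isClosed_image_full [UniversallyClosed G.j] (U' : (pullback G.pU g).Opens)
    (hUc : IsClosed (U' : Set ↥(pullback G.pU g))) [IsFinite (U'.ι ≫ pullback.snd G.pU g)]
    (B : Set ↥(pullback G.pR g)) (hB : IsClosed B) (hBs : ∀ x ∈ B, sBC G g x ∈ U') (hBt : ∀ x ∈ B, tBC G g x ∈ U') :
    IsClosed (pullback.snd G.pR g '' B) := by
  let π : pullback G.pU G.pU ⟶ S := pullback.fst G.pU G.pU ≫ G.pU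
  let q₁ : pullback π g ⟶ pullback G.pU g := pullback.map π g G.pU g (pullback.fst G.pU G.pU) (𝟙 S') (𝟙 S)
    (by simp [pullback.map, π]) (by simp)
  let q₂ : pullback π g ⟶ pullback G.pU g := pullback.map π g G.pU g (pullback.snd G.pU G.pU) (𝟙 S') (𝟙 S)
    (by simp [pullback.map, π, pullback.condition]) (by simp)
  let φ : pullback G.pR g ⟶ pullback π g := pullback.map G.pR g π g G.j (𝟙 S') (𝟙 S)
    (by simp [pullback.map, π, Grpd.GroupoidScheme.j, G.t_over]) (by simp)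
  have hφp : IsPullback φ (pullback.fst G.pR g) (pullback.fst π g) G.j :=
    IsPullback.of_bot (v₁₁ := φ) (by
      have e : φ ≫ pullback.snd π g = pullback.snd G.pR g := by simp [pullback.map, φ]
      have e' : G.j ≫ π = G.pR := by simp [pullback.map, π, Grpd.GroupoidScheme.j, G.t_over]
      rw [e, e']
      exact IsPullback.of_hasPullback G.pR g) (by simp [pullback.map, φ]) (IsPullback.of_hasPullback π g) |>.flip
  haveI : UniversallyClosed φ := MorphismProperty.of_isPullback hφp.flip ‹UniversallyClosed G.j›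
  -- second projection is a base change of the base change of the structure map
  have h₁ : IsPullback q₁ (pullback.fst π g) (pullback.fst G.pU g) (pullback.fst G.pU G.pU) := by
    refine (IsPullback.of_bot (v₁₁ := q₁) ?_ (by simp [pullback.map, q₁]) (IsPullback.of_hasPullback G.pU g)).flip
    have e : q₁ ≫ pullback.snd G.pU g = pullback.snd π g := by simp [pullback.map, q₁]
    rw [e]
    exact IsPullback.of_hasPullback π g
  have h₂ : IsPullback (pullback.fst π g ≫ pullback.snd G.pU G.pU) q₁ G.pU (pullback.fst G.pU g ≫ G.pU) :=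
    h₁.flip.paste_horiz (IsPullback.of_hasPullback G.pU G.pU).flip
  rw [pullback.condition] at h₂
  have h₃ : IsPullback q₁ q₂ (pullback.snd G.pU g) (pullback.snd G.pU g) := by
    have e₁ : q₂ ≫ pullback.fst G.pU g = pullback.fst π g ≫ pullback.snd G.pU G.pU := by simp [pullback.map, q₂]
    rw [← e₁] at h₂
    exact (IsPullback.of_right h₂ (by simp [pullback.map, q₁, q₂]) (IsPullback.of_hasPullback G.pU g).flip.flip).flip
  haveI hΩ : IsFinite ((q₁ ⁻¹ᵁ U').ι ≫ q₂) :=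
    MorphismProperty.of_isPullback ((isPullback_morphismRestrict q₁ U').paste_vert h₃) inferInstance
  have hc₁ : IsClosed (φ '' B) := φ.isClosedMap _ hB
  have hc₂ : IsClosed (q₂ '' (φ '' B)) := by
    have : q₂ '' (φ '' B) = ((q₁ ⁻¹ᵁ U').ι ≫ q₂) '' ((q₁ ⁻¹ᵁ U').ι ⁻¹' (φ '' B)) := by
      ext y
      constructor
      · rintro ⟨_, ⟨x, hx, rfl⟩, rfl⟩
        refine ⟨⟨φ x, ?_⟩, ⟨x, hx, rfl⟩, rfl⟩
        show q₁ (φ x) ∈ U'
        rw [← Scheme.Hom.comp_apply, show φ ≫ q₁ = tBC G g by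
          apply pullback.hom_ext <;> simp [pullback.map, φ, q₁, tBC, Grpd.GroupoidScheme.j]]
        exact hBt x hx
      · rintro ⟨z, hz, rfl⟩
        exact ⟨_, hz, rfl⟩
    rw [this]
    exact ((q₁ ⁻¹ᵁ U').ι ≫ q₂).isClosedMap _ (hc₁.preimage (q₁ ⁻¹ᵁ U').ι.continuous)
  have : pullback.snd G.pR g '' B = (U'.ι ≫ pullback.snd G.pU g) '' (U'.ι ⁻¹' (q₂ '' (φ '' B))) := by
    have e : φ ≫ q₂ = sBC G g := by
      apply pullback.hom_ext <;> simp [pullback.map, φ, q₂, sBC, Grpd.GroupoidScheme.j]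
    ext y
    constructor
    · rintro ⟨x, hx, rfl⟩
      refine ⟨⟨sBC G g x, hBs x hx⟩, ⟨φ x, ⟨x, hx, rfl⟩, ?_⟩, sBC_snd G g x⟩
      rw [← Scheme.Hom.comp_apply, e]; rfl
    · rintro ⟨z, ⟨_, ⟨x, hx, rfl⟩, hxz⟩, rfl⟩
      refine ⟨x, hx, ?_⟩
      rw [Scheme.Hom.comp_apply, ← hxz, ← Scheme.Hom.comp_apply φ, e, sBC_snd]
  rw [this]
  exact (U'.ι ≫ pullback.snd G.pU g).isClosedMap _ (hc₂.preimage U'.ι.continuous)

/-- A finite part of the groupoid over an elementary étale neighbourhood. -/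
theorem exists_finite_part {u : G.U} {p : S} (hu : G.pU u = p) (hqf : G.pU.QuasiFiniteAt u)
    (hfin : (⇑G.s ⁻¹' {u}).Finite) :
    ∃ (S₁ : Scheme.{u}) (g₁ : S₁ ⟶ S) (p₁ : S₁), Hens2.IsEtaleNbhd g₁ p₁ p ∧
      ∃ (U' : (pullback G.pU g₁).Opens) (R' : (pullback G.pR g₁).Opens),
        IsPart G.pU g₁ p₁ (orbit G u) U' ∧ IsPart G.pR g₁ p₁ (G.s ⁻¹' orbit G u) R' ∧
        (∀ x ∈ R', sBC G g₁ x ∈ U') ∧ (∀ x ∈ R', tBC G g₁ x ∈ U') ∧
        (UniversallyClosed G.j → ∀ x, sBC G g₁ x ∈ U' → tBC G g₁ x ∈ U' → x ∈ R') := by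
  haveI : LocallyOfFiniteType G.pR := by rw [← G.s_over]; infer_instance
  have hTfin : (orbit G u).Finite := hfin.image _
  have hTp : ∀ x ∈ orbit G u, G.pU x = p := by
    rintro _ ⟨r, hr, rfl⟩
    rw [pR_apply_t, ← pR_apply_s, (hr : G.s r = u), hu]
  have hsfin : ∀ x ∈ orbit G u, (⇑G.s ⁻¹' {x}).Finite := by
    rintro _ ⟨r, hr, rfl⟩
    exact finite_fibre_of_arrow G hfin r hr
  have hZfin : (G.s ⁻¹' orbit G u).Finite :=
    (hTfin.biUnion hsfin).subset fun r hr => Set.mem_biUnion hr rfl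
  obtain ⟨S₁, g₁, p₁, hn₁, V₁, hV₁⟩ :=
    exists_isPart G.pU p _ hTfin hTp fun x hx => quasiFiniteAt_orbit G hqf hfin hx
  obtain ⟨S₂, g₂, p₂, hn₂, V₂, hV₂⟩ := exists_isPart G.pR p _ hZfin
    (fun r hr => by rw [← pR_apply_s]; exact hTp _ hr)
    (fun r hr => quasiFiniteAt_pR G (quasiFiniteAt_orbit G hqf hfin hr) (hsfin _ hr) r rfl)
  obtain ⟨q, hn, hq₁, hq₂⟩ := exists_common hn₁ hn₂
  let g := pullback.fst g₁ g₂ ≫ g₁
  let U₀ := bcMap G.pU (pullback.fst g₁ g₂) (rfl : _ = g) ⁻¹ᵁ V₁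
  let R₀ := bcMap G.pR (pullback.snd g₁ g₂) (pullback.condition.symm : _ = g) ⁻¹ᵁ V₂
  have hU₀ : IsPart G.pU g q _ U₀ := hV₁.comap _ rfl q hq₁
  have hR₀ : IsPart G.pR g q _ R₀ := hV₂.comap _ pullback.condition.symm q hq₂
  have := hU₀.finite
  have := hR₀.finite
  -- the three bad sets
  have hbad : ∀ (f : pullback G.pR g ⟶ pullback G.pU g),
      IsClosed (pullback.snd G.pR g '' {x | x ∈ R₀ ∧ f x ∉ U₀}) := fun f => by
    have : pullback.snd G.pR g '' {x | x ∈ R₀ ∧ f x ∉ U₀} =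
        (R₀.ι ≫ pullback.snd G.pR g) '' ((R₀.ι ≫ f) ⁻¹' (U₀ : Set _)ᶜ) := by
      ext y
      constructor
      · rintro ⟨x, ⟨hx, hfx⟩, rfl⟩; exact ⟨⟨x, hx⟩, hfx, rfl⟩
      · rintro ⟨x, hx, rfl⟩; exact ⟨x.1, ⟨x.2, hx⟩, rfl⟩
    rw [this]
    exact (R₀.ι ≫ pullback.snd G.pR g).isClosedMap _ (U₀.isOpen.isClosed_compl.preimage (R₀.ι ≫ f).continuous)
  let B : Set ↥(pullback G.pR g) := {x | sBC G g x ∈ U₀ ∧ tBC G g x ∈ U₀ ∧ x ∉ R₀}
  have hs_mem : ∀ x, pullback.snd G.pR g x = q → (sBC G g x ∈ U₀ ↔ x ∈ R₀) := fun x hx => by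
    rw [hU₀.mem _ (by rw [sBC_snd, hx]), hR₀.mem _ hx, sBC_fst]; rfl
  let W : Set ↥(pullback g₁ g₂) := (pullback.snd G.pR g '' {x | x ∈ R₀ ∧ sBC G g x ∉ U₀})ᶜ ∩
    (pullback.snd G.pR g '' {x | x ∈ R₀ ∧ tBC G g x ∉ U₀})ᶜ ∩
    {y | UniversallyClosed G.j → y ∉ pullback.snd G.pR g '' B}
  have hW : IsOpen W := by
    refine ((hbad _).isOpen_compl.inter (hbad _).isOpen_compl).inter ?_
    by_cases hj : UniversallyClosed G.j
    · simp only [hj, forall_const]
      refine (isClosed_image_full G g U₀ hU₀.closed B ?_ (fun x h => h.1) (fun x h => h.2.1)).isOpen_compl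
      exact (hU₀.closed.preimage (sBC G g).continuous).inter
        ((hU₀.closed.preimage (tBC G g).continuous).inter R₀.isOpen.isClosed_compl)
    · simp only [hj, IsEmpty.forall_iff, Set.setOf_true, isOpen_univ]
  have hqW : q ∈ W := by
    refine ⟨⟨?_, ?_⟩, fun _ => ?_⟩
    · rintro ⟨x, ⟨hx, hx'⟩, e⟩; exact hx' ((hs_mem x e).2 hx)
    · rintro ⟨x, ⟨hx, hx'⟩, e⟩
      refine hx' ((hU₀.mem _ (by rw [tBC_snd, e])).2 ?_)
      rw [tBC_fst]
      exact orbit_closed G ((hR₀.mem _ e).1 hx)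
    · rintro ⟨x, ⟨hx, -, hx'⟩, e⟩; exact hx' ((hs_mem x e).1 hx)
  let Wo : (pullback g₁ g₂).Opens := ⟨W, hW⟩
  refine ⟨_, Wo.ι ≫ g, ⟨q, hqW⟩, nbhd_restrict hn Wo hqW, bcMap G.pU Wo.ι rfl ⁻¹ᵁ U₀, bcMap G.pR Wo.ι rfl ⁻¹ᵁ R₀,
    hU₀.comap Wo.ι rfl ⟨q, hqW⟩ rfl, hR₀.comap Wo.ι rfl ⟨q, hqW⟩ rfl, ?_, ?_, ?_⟩
  · intro x hx
    show bcMap G.pU Wo.ι rfl (sBC G (Wo.ι ≫ g) x) ∈ U₀
    rw [← Scheme.Hom.comp_apply, ← bcMap_sBC, Scheme.Hom.comp_apply]
    refine by_contra fun hn' => (show Wo.ι (pullback.snd G.pR (Wo.ι ≫ g) x) ∈ W from Subtype.prop _).1.1 ?_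
    exact ⟨_, ⟨hx, hn'⟩, snd_bcMap G.pR Wo.ι rfl x⟩
  · intro x hx
    show bcMap G.pU Wo.ι rfl (tBC G (Wo.ι ≫ g) x) ∈ U₀
    rw [← Scheme.Hom.comp_apply, ← bcMap_tBC, Scheme.Hom.comp_apply]
    refine by_contra fun hn' => (show Wo.ι (pullback.snd G.pR (Wo.ι ≫ g) x) ∈ W from Subtype.prop _).1.2 ?_
    exact ⟨_, ⟨hx, hn'⟩, snd_bcMap G.pR Wo.ι rfl x⟩
  · intro hj x hs ht
    replace hs : bcMap G.pU Wo.ι rfl (sBC G (Wo.ι ≫ g) x) ∈ U₀ := hs
    replace ht : bcMap G.pU Wo.ι rfl (tBC G (Wo.ι ≫ g) x) ∈ U₀ := ht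
    rw [← Scheme.Hom.comp_apply, ← bcMap_sBC, Scheme.Hom.comp_apply] at hs
    rw [← Scheme.Hom.comp_apply, ← bcMap_tBC, Scheme.Hom.comp_apply] at ht
    refine by_contra fun hn' => (show Wo.ι (pullback.snd G.pR (Wo.ι ≫ g) x) ∈ W from Subtype.prop _).2 hj ?_
    exact ⟨_, ⟨hs, ht, hn'⟩, snd_bcMap G.pR Wo.ι rfl x⟩

/-- The description of the fibre of the finite part over the marked point. -/
theorem fibre_eq {u : G.U} {p : S} (hu : G.pU u = p) {p' : S'} (hn : Hens2.IsEtaleNbhd g p' p)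
    {U' : (pullback G.pU g).Opens} (hU : IsPart G.pU g p' (orbit G u) U')
    (u' : ↥(pullback G.pU g)) (hu₁ : pullback.fst G.pU g u' = u) (hu₂ : pullback.snd G.pU g u' = p') :
    {x : ↥(pullback G.pU g) | x ∈ U' ∧ pullback.snd G.pU g x = p'} = tBC G g '' (sBC G g ⁻¹' {u'}) := by
  ext x
  constructor
  · rintro ⟨hx, hxp⟩
    obtain ⟨r, hr, hrx⟩ := (hU.mem _ hxp).1 hx
    have hr' : G.pR r = g p' := by rw [← pR_apply_s, (hr : G.s r = u), hu, hn.base_eq]
    obtain ⟨z, ⟨hz₁, hz₂, -⟩, -⟩ := existsUnique_lift G.pR g r p' hr' hn.residue_bijective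
    obtain ⟨z₀, -, h₀⟩ := existsUnique_lift G.pU g u p' (hu.trans hn.base_eq.symm) hn.residue_bijective
    obtain ⟨z₁, -, h₁⟩ := existsUnique_lift G.pU g (G.t r) p' (by rw [pR_apply_t, hr']) hn.residue_bijective
    refine ⟨z, ?_, ?_⟩
    · exact (h₀ _ (by rw [sBC_fst, hz₁]; exact hr) (by rw [sBC_snd, hz₂])).trans (h₀ u' hu₁ hu₂).symm
    · exact (h₁ _ (by rw [tBC_fst, hz₁]) (by rw [tBC_snd, hz₂])).trans (h₁ x hrx.symm hxp).symm
  · rintro ⟨z, hz, rfl⟩
    have hz' : sBC G g z = u' := hz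
    have h : pullback.snd G.pU g (tBC G g z) = p' := by rw [tBC_snd, ← sBC_snd, hz', hu₂]
    refine ⟨(hU.mem _ h).2 ⟨pullback.fst G.pR g z, ?_, (tBC_fst G g z).symm⟩, h⟩
    show G.s _ = u
    rw [← sBC_fst, hz', hu₁]

end Groth.Agent.GrpdLib.EtPart
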